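import Groth.Agent.H78.Formal.Sys
import Groth.Agent.H78.Formal.Principal
import Groth.Agent.H78.FormalFun.Basic
import Groth.Agent.H78.FormalFun.Principal
import Mathlib.Algebra.Homology.ShortComplex.ShortExact

/-!
# Multiplication maps between the levels of a coherent formal module
-/

set_option autoImplicit false
set_option linter.style.haveILetI false
set_option linter.unusedSectionVars false

universe u

open CategoryTheory Limits AlgebraicGeometry Opposite TopologicalSpace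

namespace Groth.Agent.H2.CanExt.Mult

open Groth.Agent.Lib Groth.Agent.Lib.CohBasics.Affine Groth.Agent.H78.Formal Groth.Agent.H78.Formal.Sections
open Groth.Agent.H78.Formal.Principal (smulMod_mul)
open Groth.Agent.H78.FormalFun.Basic

variable {A : Type u} [CommRing A] {X : Scheme.{u}} [X.Over (Spec (CommRingCat.of A))]
variable {I : Ideal A} {G : ℕᵒᵖ ⥤ X.Modules} (hG : _root_.Formal.IsCohFormal I G)

/-- The transition map. -/
noncomputable abbrev T (G : ℕᵒᵖ ⥤ X.Modules) {n m : ℕ} (h : n ≤ m) : G.obj (op m) ⟶ G.obj (op n) :=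
  G.map (homOfLE h).op

lemma T_comp {l n m : ℕ} (h : l ≤ n) (h' : n ≤ m) : T G h' ≫ T G h = T G (h.trans h') := by
  rw [T, T, T, ← G.map_comp]
  rfl

include hG

lemma smul_eq_zero {n k : ℕ} (h : n + 1 ≤ k) {g : A} (hg : g ∈ I ^ k) :
    _root_.Formal.smulMod A (G.obj (op n)) g = 0 :=
  hG.2.1 n g (Ideal.pow_le_pow_right h hg)

/-- A map killed by `I^(n+1)` factors through the transition to level `n`. -/
lemma exists_factor {n m : ℕ} (h : n ≤ m) {Q : X.Modules} (φ : G.obj (op m) ⟶ Q)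
    (hφ : ∀ a ∈ I ^ (n + 1), _root_.Formal.smulMod A (G.obj (op m)) a ≫ φ = 0) :
    ∃ ψ : G.obj (op n) ⟶ Q, T G h ≫ ψ = φ := by
  haveI := Sys.qcoh hG n
  haveI := Sys.qcoh hG m
  haveI := Sys.epi_map hG h
  refine Sys.exists_desc _ φ fun U hU s hs => ?_
  rw [(Sys.map_spec hG h hU).2] at hs
  have : sIdeal I U ^ (n + 1) • (⊤ : Submodule Γ(X, U) Γ(G.obj (op m), U)) ≤
      LinearMap.ker (secₗ φ U) := by
    rw [← sIdeal_pow, sIdeal_smul_le_iff]
    intro a ha x _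
    rw [LinearMap.mem_ker, secₗ_apply, ← smulMod_app]
    exact ConcreteCategory.congr_hom (congrArg (fun χ => χ.app U) (hφ a ha)) x
  exact this hs

theorem exists_mulTo {n m k : ℕ} (h : n ≤ m) (hm : m ≤ n + k) {g : A} (hg : g ∈ I ^ k) :
    ∃ ψ : G.obj (op n) ⟶ G.obj (op m), T G h ≫ ψ = _root_.Formal.smulMod A (G.obj (op m)) g :=
  exists_factor hG h _ fun a ha => by
    rw [← smulMod_mul]
    refine smul_eq_zero hG (k := n + 1 + k) (by omega) ?_
    rw [pow_add]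
    exact Ideal.mul_mem_mul ha hg

/-- Multiplication by `g ∈ I^k` from level `n` to level `m ≤ n + k`. -/
noncomputable def mulTo {n m k : ℕ} (h : n ≤ m) (hm : m ≤ n + k) {g : A} (hg : g ∈ I ^ k) :
    G.obj (op n) ⟶ G.obj (op m) :=
  (exists_mulTo hG h hm hg).choose

theorem T_mulTo {n m k : ℕ} (h : n ≤ m) (hm : m ≤ n + k) {g : A} (hg : g ∈ I ^ k) :
    T G h ≫ mulTo hG h hm hg = _root_.Formal.smulMod A (G.obj (op m)) g :=
  (exists_mulTo hG h hm hg).choose_spec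

theorem eq_mulTo {n m k : ℕ} (h : n ≤ m) (hm : m ≤ n + k) {g : A} (hg : g ∈ I ^ k)
    (ψ : G.obj (op n) ⟶ G.obj (op m)) (hψ : T G h ≫ ψ = _root_.Formal.smulMod A (G.obj (op m)) g) :
    ψ = mulTo hG h hm hg := by
  haveI := Sys.epi_map hG h
  rw [← cancel_epi (T G h), hψ, T_mulTo]

/-- The transition down after multiplication. -/
theorem mulTo_T {n l m k : ℕ} (h : n ≤ m) (hm : m ≤ n + k) {g : A} (hg : g ∈ I ^ k)
    (hl : n ≤ l) (hlm : l ≤ m) :
    mulTo hG h hm hg ≫ T G hlm = mulTo hG hl (hlm.trans hm) hg := by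
  haveI := Sys.epi_map hG h
  rw [← cancel_epi (T G h), ← Category.assoc, T_mulTo, smulMod_comp]
  rw [← T_comp hl hlm, Category.assoc, T_mulTo]

/-- Multiplication by a product. -/
theorem mulTo_mulTo {n l m k k' : ℕ} (h : n ≤ l) (hl : l ≤ n + k) {g : A} (hg : g ∈ I ^ k)
    (h' : l ≤ m) (hm : m ≤ l + k') {g' : A} (hg' : g' ∈ I ^ k') :
    mulTo hG h hl hg ≫ mulTo hG h' hm hg' =
      mulTo hG (h.trans h') (show m ≤ n + (k + k') by omega) (g := g * g')
        (by rw [pow_add]; exact Ideal.mul_mem_mul hg hg') := by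
  refine eq_mulTo hG (h.trans h') (show m ≤ n + (k + k') by omega)
    (show g * g' ∈ I ^ (k + k') by rw [pow_add]; exact Ideal.mul_mem_mul hg hg') _ ?_
  rw [← T_comp h h', Category.assoc, ← Category.assoc (T G h), T_mulTo, smulMod_comp, ← Category.assoc,
    T_mulTo, ← smulMod_mul, mul_comm]

theorem mulTo_congr {n m k k' : ℕ} (h : n ≤ m) (hm : m ≤ n + k) (hm' : m ≤ n + k') {g g' : A}
    (hg : g ∈ I ^ k) (hg' : g' ∈ I ^ k') (e : g = g') : mulTo hG h hm hg = mulTo hG h hm' hg' := by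
  subst e
  exact eq_mulTo hG h hm' hg' _ (T_mulTo hG h hm hg)

theorem mulTo_sum {n m k : ℕ} (h : n ≤ m) (hm : m ≤ n + k) {ι : Type*} (s : Finset ι) (g : ι → A)
    (hg : ∀ i, g i ∈ I ^ k) :
    mulTo hG h hm (Ideal.sum_mem (I ^ k) (fun i _ => hg i) : ∑ i ∈ s, g i ∈ I ^ k) =
      ∑ i ∈ s, mulTo hG h hm (hg i) := by
  refine (eq_mulTo hG h hm _ _ ?_).symm
  rw [Preadditive.comp_sum]
  simp only [T_mulTo]
  exact (map_sum (AddMonoidHom.mk' (fun a => _root_.Formal.smulMod A (G.obj (op m)) a)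
    fun a b => smulMod_add _ a b) g s).symm

omit hG in
/-- The kernel of one transition step. -/
noncomputable abbrev K (G : ℕᵒᵖ ⥤ X.Modules) (n : ℕ) : X.Modules := kernel (T G (Nat.le_succ n))

omit hG in
/-- The sequence of one step. -/
noncomputable abbrev step (G : ℕᵒᵖ ⥤ X.Modules) (n : ℕ) : ShortComplex X.Modules :=
  ShortComplex.mk (kernel.ι (T G (Nat.le_succ n))) (T G (Nat.le_succ n)) (kernel.condition _)

theorem step_shortExact (n : ℕ) : (step G n).ShortExact :=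
  haveI := Sys.epi_map hG (Nat.le_succ n)
  { exact := ShortComplex.exact_of_f_is_kernel _ (kernelIsKernel _) }

/-- Multiplication by an element of `I` on the kernels. -/
noncomputable def κ {a : A} (ha : a ∈ I ^ 1) (n : ℕ) : K G n ⟶ K G (n + 1) :=
  kernel.lift _ (kernel.ι (T G (Nat.le_succ n)) ≫ mulTo hG (Nat.le_succ (n + 1)) le_rfl ha) (by
    rw [Category.assoc, mulTo_T hG (Nat.le_succ (n + 1)) le_rfl ha le_rfl (Nat.le_succ (n + 1))]
    rw [← eq_mulTo hG (le_refl (n + 1)) (Nat.le_succ (n + 1)) ha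
      (T G (Nat.le_succ n) ≫ mulTo hG (Nat.le_succ n) le_rfl ha) (by
        rw [← Category.assoc, T_comp, T_mulTo])]
    rw [kernel.condition_assoc, zero_comp])

theorem κ_ι {a : A} (ha : a ∈ I ^ 1) (n : ℕ) :
    κ hG ha n ≫ kernel.ι (T G (Nat.le_succ (n + 1))) =
      kernel.ι (T G (Nat.le_succ n)) ≫ mulTo hG (Nat.le_succ (n + 1)) le_rfl ha :=
  kernel.lift_ι _ _ _

/-- Multiplication as a map of the step sequences. -/
noncomputable def stepMap {a : A} (ha : a ∈ I ^ 1) (n : ℕ) : step G n ⟶ step G (n + 1) where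
  τ₁ := κ hG ha n
  τ₂ := mulTo hG (Nat.le_succ (n + 1)) le_rfl ha
  τ₃ := mulTo hG (Nat.le_succ n) le_rfl ha
  comm₁₂ := κ_ι hG ha n
  comm₂₃ := by
    show mulTo hG (Nat.le_succ (n + 1)) le_rfl ha ≫ T G (Nat.le_succ (n + 1)) =
      T G (Nat.le_succ n) ≫ mulTo hG (Nat.le_succ n) le_rfl ha
    rw [mulTo_T hG (Nat.le_succ (n + 1)) le_rfl ha le_rfl (Nat.le_succ (n + 1))]
    refine (eq_mulTo hG _ _ ha _ ?_).symm
    rw [← Category.assoc, T_comp, T_mulTo]

/-- Multiplication by `g ∈ I^(n+1)` from the first level to the `n`-th kernel. -/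
noncomputable def toK {n : ℕ} {g : A} (hg : g ∈ I ^ (n + 1)) : G.obj (op 0) ⟶ K G n :=
  kernel.lift _ (mulTo hG (Nat.zero_le (n + 1)) (Nat.zero_add _).ge hg) (by
    rw [mulTo_T hG (Nat.zero_le (n + 1)) (Nat.zero_add _).ge hg (Nat.zero_le n) (Nat.le_succ n)]
    symm
    refine eq_mulTo hG _ _ hg _ ?_
    rw [comp_zero, smul_eq_zero hG le_rfl hg])

theorem toK_ι {n : ℕ} {g : A} (hg : g ∈ I ^ (n + 1)) :
    toK hG hg ≫ kernel.ι (T G (Nat.le_succ n)) = mulTo hG (Nat.zero_le (n + 1)) (Nat.zero_add _).ge hg :=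
  kernel.lift_ι _ _ _

theorem toK_κ {n : ℕ} {g : A} (hg : g ∈ I ^ (n + 1)) {a : A} (ha : a ∈ I ^ 1)
    (hga : g * a ∈ I ^ (n + 2)) : toK hG hg ≫ κ hG ha n = toK hG hga := by
  rw [← cancel_mono (kernel.ι (T G (Nat.le_succ (n + 1)))), Category.assoc, κ_ι, ← Category.assoc,
    toK_ι, toK_ι, mulTo_mulTo]

theorem toK_sum {n : ℕ} {ι : Type*} (s : Finset ι) (g : ι → A) (hg : ∀ i, g i ∈ I ^ (n + 1)) :
    toK hG (Ideal.sum_mem (I ^ (n + 1)) (fun i _ => hg i) : ∑ i ∈ s, g i ∈ I ^ (n + 1)) =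
      ∑ i ∈ s, toK hG (hg i) := by
  rw [← cancel_mono (kernel.ι (T G (Nat.le_succ n))), Preadditive.sum_comp, toK_ι]
  simp only [toK_ι]
  exact mulTo_sum hG _ _ s g hg

theorem toK_congr {n : ℕ} {g g' : A} (hg : g ∈ I ^ (n + 1)) (hg' : g' ∈ I ^ (n + 1)) (e : g = g') :
    toK hG hg = toK hG hg' := by
  subst e
  rfl

end Groth.Agent.H2.CanExt.Mult
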