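import Groth.Agent.H2.CanExt.MLCrit
import Groth.Agent.H2.CanExt.Mult
import Groth.Agent.H78.Formal.SectLimit
import Groth.Agent.Lib.Curves.GlobalSections

/-!
# Canonical extension from free graded pieces

`canonicallyExtends`: if each kernel `ker(G_{n+1} → G_n)` is isomorphic, by multiplication with finitely many
elements of `I^(n+1)`, to a power of `G_0`, and `H^0`, `H^1` of `G_0` are finite, then `G` canonically extends.
-/

set_option autoImplicit false
set_option linter.style.haveILetI false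
set_option linter.unusedSectionVars false

universe u

open CategoryTheory Limits AlgebraicGeometry Opposite TopologicalSpace

namespace Groth.Agent.H2.CanExt.Crit


open Groth.Agent.Lib Groth.Agent.H78.Formal Groth.Agent.H78.FormalFun.Basic Groth.Agent.H2.CanExt.Mult
open Groth.Agent.Lib.Curves.LES

/-- Finite biproducts of modules. -/
instance hasBiproduct_modules {X : Scheme.{u}} {N : ℕ} (f : Fin N → X.Modules) : HasBiproduct f :=
  haveI : HasFiniteBiproducts X.Modules := Abelian.hasFiniteBiproducts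
  inferInstance

section Coh

variable {A : Type u} [CommRing A] {X : Scheme.{u}} [X.Over (Spec (CommRingCat.of A))]

/-- Cohomology maps are additive. -/
theorem H_sum (p : ℕ) {M N : X.Modules} {ι : Type*} (t : Finset ι) (ψ : ι → (M ⟶ N)) (x : Coh.HH X M p) :
    H (A := A) p (∑ i ∈ t, ψ i) x = ∑ i ∈ t, H (A := A) p (ψ i) x := by
  show Sheaf.H.map (toAbMap (∑ i ∈ t, ψ i)) p x = ∑ i ∈ t, Sheaf.H.map (toAbMap (ψ i)) p x
  rw [show toAbMap (∑ i ∈ t, ψ i) = ∑ i ∈ t, toAbMap (ψ i) from (F X).map_sum ψ t]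
  simp only [Sheaf.H.map_apply]
  classical
  induction t using Finset.induction_on with
  | empty => rw [Finset.sum_empty, Finset.sum_empty, Abelian.Ext.mk₀_zero, Abelian.Ext.comp_zero]
  | insert i t hi ih => rw [Finset.sum_insert hi, Finset.sum_insert hi, Abelian.Ext.mk₀_add, Abelian.Ext.comp_add, ih]

/-- A class on a finite biproduct is the sum of its components. -/
theorem exists_sum_of_iso (p : ℕ) {N : ℕ} {M L : X.Modules} (φ : Fin N → (M ⟶ L))
    [IsIso (biproduct.desc φ)] (x : Coh.HH X L p) :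
    ∃ w : Fin N → Coh.HH X M p, x = ∑ i, H (A := A) p (φ i) (w i) := by
  let D := biproduct.desc φ
  refine ⟨fun i => H (A := A) p (inv D ≫ biproduct.π _ i) x, ?_⟩
  have e : 𝟙 L = ∑ i, (inv D ≫ biproduct.π _ i) ≫ φ i := by
    calc 𝟙 L = inv D ≫ (∑ i, biproduct.π _ i ≫ φ i) := by
          rw [← biproduct.desc_eq]; exact (IsIso.inv_hom_id D).symm
      _ = _ := by
          rw [Preadditive.comp_sum]
          exact Finset.sum_congr rfl fun i _ => (Category.assoc _ _ _).symm
  conv_lhs => rw [← LinearMap.id_apply (R := A) x, ← mapK_id A L p, e]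
  show H (A := A) p _ x = _
  rw [H_sum]
  exact Finset.sum_congr rfl fun i _ => H_comp p _ _ x

end Coh

variable {A : Type u} [CommRing A] {U : (Spec (CommRingCat.of A)).Opens}

/-- Global sections and `H^0`. -/
noncomputable def eA (M : (U : Scheme.{u}).Modules) :
    (moduleSpecΓFunctor (R := CommRingCat.of A)).obj ((Scheme.Modules.pushforward U.ι).obj M) ≃+
      Coh.HH (U : Scheme.{u}) M 0 :=
  (Curves.GlobalSections.h0Equiv M).symm

theorem eA_map {M N : (U : Scheme.{u}).Modules} (φ : M ⟶ N)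
    (x : (moduleSpecΓFunctor (R := CommRingCat.of A)).obj ((Scheme.Modules.pushforward U.ι).obj M)) :
    eA N (((moduleSpecΓFunctor (R := CommRingCat.of A)).map ((Scheme.Modules.pushforward U.ι).map φ)).hom x) =
      H (A := A) 0 φ (eA M x) :=
  (Sheaf.H.equiv₀_symm_naturality (f := toAbMap φ) _ x).symm

theorem map_smulMod (M : (U : Scheme.{u}).Modules) (a : A)
    (x : (moduleSpecΓFunctor (R := CommRingCat.of A)).obj ((Scheme.Modules.pushforward U.ι).obj M)) :
    ((moduleSpecΓFunctor (R := CommRingCat.of A)).map ((Scheme.Modules.pushforward U.ι).map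
      (_root_.Formal.smulMod A M a))).hom x = a • x := by
  letI : (Spec (CommRingCat.of A)).Over (Spec (CommRingCat.of A)) := ⟨𝟙 _⟩
  rw [PullSys.smulMod_pushforward (Canonical.hcompat U)]
  exact Algebraize.smulMod_specΓ ((Scheme.Modules.pushforward U.ι).obj M) a x

/-- Global sections and `H^0`, linearly. -/
noncomputable def eL (M : (U : Scheme.{u}).Modules) :
    (moduleSpecΓFunctor (R := CommRingCat.of A)).obj ((Scheme.Modules.pushforward U.ι).obj M) ≃ₗ[A]
      Coh.HH (U : Scheme.{u}) M 0 :=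
  { eA M with
    map_smul' := fun a x => by
      refine (congrArg (eA M) (map_smulMod M a x)).symm.trans ?_
      rw [eA_map, H_smulMod]
      rfl }

theorem eL_map {M N : (U : Scheme.{u}).Modules} (φ : M ⟶ N)
    (x : (moduleSpecΓFunctor (R := CommRingCat.of A)).obj ((Scheme.Modules.pushforward U.ι).obj M)) :
    eL N (((moduleSpecΓFunctor (R := CommRingCat.of A)).map ((Scheme.Modules.pushforward U.ι).map φ)).hom x) =
      H (A := A) 0 φ (eL M x) := eA_map φ x

variable [IsNoetherianRing A] {I : Ideal A} {G : ℕᵒᵖ ⥤ (U : Scheme.{u}).Modules}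

/-- Free graded pieces and finiteness in the first level give a canonical extension. -/
theorem canonicallyExtends (hG : _root_.Formal.IsCohFormal I G)
    (hfree : ∀ n, ∃ (N : ℕ) (b : Fin N → A) (hb : ∀ i, b i ∈ I ^ (n + 1)),
      IsIso (biproduct.desc fun i => toK hG (hb i)))
    (h0 : Module.Finite A (Coh.HH (U : Scheme.{u}) (G.obj (op 0)) 0))
    (h1 : Module.Finite A (Coh.HH (U : Scheme.{u}) (G.obj (op 0)) 1)) :
    _root_.Algz.CanonicallyExtends A I U G := by
  classical
  obtain ⟨s, a, ha⟩ := Submodule.fg_iff_exists_fin_generating_family.1 (IsNoetherian.noetherian I)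
  have haI : ∀ j, a j ∈ I := fun j => ha ▸ Submodule.subset_span ⟨j, rfl⟩
  have ha1 : ∀ j, a j ∈ I ^ 1 := fun j => by rw [pow_one]; exact haI j
  have hdec : ∀ (n : ℕ), ∀ g ∈ I ^ (n + 1), ∃ c : Fin s → A, (∀ j, c j ∈ I ^ n) ∧ g = ∑ j, c j * a j := by
    intro n g hg
    rw [pow_succ] at hg
    induction hg using Submodule.mul_induction_on' with
    | mem_mul_mem p hp q hq =>
      rw [← ha] at hq
      obtain ⟨e, he⟩ := (Submodule.mem_span_range_iff_exists_fun A).1 hq
      refine ⟨fun j => p * e j, fun j => Ideal.mul_mem_right _ _ hp, ?_⟩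
      rw [← he, Finset.mul_sum]
      exact Finset.sum_congr rfl fun j _ => by rw [smul_eq_mul]; ring
    | add x _ y _ hx hy =>
      obtain ⟨c, hc, rfl⟩ := hx
      obtain ⟨d, hd, rfl⟩ := hy
      exact ⟨c + d, fun j => add_mem (hc j) (hd j), by
        rw [← Finset.sum_add_distrib]; exact Finset.sum_congr rfl fun j _ => by rw [Pi.add_apply, add_mul]⟩
  let P : (U : Scheme.{u}).Modules ⥤ ModuleCat.{u} A :=
    Scheme.Modules.pushforward U.ι ⋙ moduleSpecΓFunctor (R := CommRingCat.of A)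
  let S := _root_.Algz.sectMod A U G
  let μ : Fin s → ∀ n, S.obj (op n) →ₗ[A] S.obj (op (n + 1)) := fun j n =>
    (P.map (mulTo hG (Nat.le_succ n) le_rfl (ha1 j))).hom
  have hcomp : ∀ {M N L : (U : Scheme.{u}).Modules} (φ : M ⟶ N) (ψ : N ⟶ L) (x : P.obj M),
      (P.map ψ).hom ((P.map φ).hom x) = (P.map (φ ≫ ψ)).hom x := fun φ ψ x => by
    rw [Functor.map_comp]; rfl
  have htr : ∀ j n x, MLCrit.tr1 S n (μ j n x) = a j • x := fun j n x => by
    refine (hcomp _ _ x).trans ?_
    rw [mulTo_T hG (Nat.le_succ n) le_rfl (ha1 j) le_rfl (Nat.le_succ n),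
      ← eq_mulTo hG le_rfl ((Nat.le_succ n).trans le_rfl) (ha1 j)
        (_root_.Formal.smulMod A (G.obj (op n)) (a j)) (by
          rw [show T G (le_refl n) = 𝟙 _ from G.map_id _, Category.id_comp])]
    exact map_smulMod _ _ x
  have hμ : ∀ j n x, μ j n (MLCrit.tr1 S n x) = a j • x := fun j n x => by
    refine (hcomp _ _ x).trans ?_
    rw [T_mulTo]
    exact map_smulMod _ _ x
  have hkill : ∀ j (x : S.obj (op 0)), a j • x = 0 := fun j x => by
    rw [← Submodule.mem_bot A, ← SectTower.killed U G hG 0, zero_add, pow_one]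
    exact Submodule.smul_mem_smul (haI j) trivial
  have hμcomm : ∀ i j n x, μ i (n + 1) (μ j n x) = μ j (n + 1) (μ i n x) := fun i j n x => by
    refine (hcomp _ _ x).trans (Eq.trans ?_ (hcomp _ _ x).symm)
    rw [mulTo_mulTo, mulTo_mulTo]
    exact congrArg (fun φ => (P.map φ).hom x) (mulTo_congr hG _ _ _ _ _ (mul_comm _ _))
  have hKH : ∀ (p : ℕ) (n : ℕ) (x : Coh.HH (U : Scheme.{u}) (K G (n + 1)) p),
      ∃ y : Fin s → Coh.HH (U : Scheme.{u}) (K G n) p, x = ∑ j, H (A := A) p (κ hG (ha1 j) n) (y j) := by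
    intro p n x
    obtain ⟨N, b, hb, hiso⟩ := hfree (n + 1)
    obtain ⟨w, rfl⟩ := exists_sum_of_iso (A := A) p (fun i => toK hG (hb i)) x
    choose c hc hbc using fun i => hdec (n + 1) (b i) (hb i)
    refine ⟨fun j => ∑ i, H (A := A) p (toK hG (hc i j)) (w i), ?_⟩
    simp only [map_sum]
    rw [Finset.sum_comm]
    refine Finset.sum_congr rfl fun i _ => ?_
    have hm : ∀ j, c i j * a j ∈ I ^ (n + 2) := fun j => by
      rw [pow_succ]; exact Ideal.mul_mem_mul (hc i j) (haI j)
    rw [toK_congr hG (hb i) (Ideal.sum_mem _ (fun j _ => hm j)) (hbc i), toK_sum hG _ _ hm]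
    rw [H_sum]
    exact Finset.sum_congr rfl fun j _ => by rw [← H_comp, toK_κ hG (hc i j) (ha1 j) (hm j)]
  -- kernels of the first transition
  obtain ⟨N₀, b₀, hb₀, hiso₀⟩ := hfree 0
  have hK0 : Module.Finite A (Coh.HH (U : Scheme.{u}) (K G 0) 1) := by
    haveI := h1
    refine Module.Finite.of_surjective
      (∑ i, (H (A := A) 1 (toK hG (hb₀ i))) ∘ₗ LinearMap.proj i :
        (Fin N₀ → Coh.HH (U : Scheme.{u}) (G.obj (op 0)) 1) →ₗ[A] _) fun x => ?_
    obtain ⟨w, rfl⟩ := exists_sum_of_iso (A := A) 1 (fun i => toK hG (hb₀ i)) x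
    exact ⟨w, by simp⟩
  let δ : ∀ n, S.obj (op n) →ₗ[A] Coh.HH (U : Scheme.{u}) (K G n) 1 := fun n =>
    δK A (step_shortExact hG n) 0 1 rfl ∘ₗ (eL (G.obj (op n))).toLinearMap
  have hδ : ∀ n x, δ n x = 0 → ∃ y, MLCrit.tr1 S n y = x := fun n x hx => by
    obtain ⟨z, hz⟩ := (exactK₃ A (step_shortExact hG n) 0 1 rfl _).1 hx
    refine ⟨(eL (G.obj (op (n + 1)))).symm z, (eL (G.obj (op n))).injective ?_⟩
    refine (eL_map (T G (Nat.le_succ n)) _).trans ?_
    rw [LinearEquiv.apply_symm_apply]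
    exact hz
  have hnat : ∀ j n x, δ (n + 1) (μ j n x) = H (A := A) 1 (κ hG (ha1 j) n) (δ n x) := fun j n x => by
    refine (congrArg (δK A (step_shortExact hG (n + 1)) 0 1 rfl) (eL_map _ x)).trans ?_
    exact Groth.Agent.H78.FormalFun.Principal.δK_natural (A := A) (step_shortExact hG n)
      (step_shortExact hG (n + 1)) (stepMap hG (ha1 j) n) 0 1 rfl (eL (G.obj (op n)) x)
  have hνcomm : ∀ i j n (x : Coh.HH (U : Scheme.{u}) (K G n) 1),
      H (A := A) 1 (κ hG (ha1 i) (n + 1)) (H (A := A) 1 (κ hG (ha1 j) n) x) =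
      H (A := A) 1 (κ hG (ha1 j) (n + 1)) (H (A := A) 1 (κ hG (ha1 i) n) x) := fun i j n x => by
    rw [← H_comp, ← H_comp]
    refine congrArg (fun φ => H (A := A) 1 φ x) ?_
    rw [← cancel_mono (kernel.ι (T G (Nat.le_succ (n + 2)))), Category.assoc, κ_ι, ← Category.assoc, κ_ι,
      Category.assoc, mulTo_mulTo, Category.assoc, κ_ι, ← Category.assoc, κ_ι, Category.assoc, mulTo_mulTo]
    exact congrArg (kernel.ι _ ≫ ·) (mulTo_congr hG _ _ _ _ _ (mul_comm _ _))
  have hE0 : Module.Finite A (S.obj (op 0)) :=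
    haveI := h0
    Module.Finite.equiv (eL (G.obj (op 0))).symm
  have hker : ∀ n (x : S.obj (op (n + 1))), MLCrit.tr1 S n x = 0 →
      ∃ w : Coh.HH (U : Scheme.{u}) (K G n) 0,
        eL (G.obj (op (n + 1))) x = H (A := A) 0 (kernel.ι (T G (Nat.le_succ n))) w := fun n x hx => by
    have h := (eL_map (T G (Nat.le_succ n)) x).symm.trans ((congrArg (eL (G.obj (op n))) hx).trans (map_zero _))
    obtain ⟨w, hw⟩ := (exactK₂ A (step_shortExact hG n) 0 _).1 h
    exact ⟨w, hw.symm⟩
  have hgenE₀ : ∀ x, MLCrit.tr1 S 0 x = 0 → ∃ y : Fin s → S.obj (op 0), x = ∑ j, μ j 0 (y j) := by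
    intro x hx
    obtain ⟨w, hw⟩ := hker 0 x hx
    obtain ⟨v, rfl⟩ := exists_sum_of_iso (A := A) 0 (fun i => toK hG (hb₀ i)) w
    choose c hc hbc using fun i => hdec 0 (b₀ i) (hb₀ i)
    refine ⟨fun j => (eL (G.obj (op 0))).symm (∑ i, c i j • v i), (eL (G.obj (op 1))).injective ?_⟩
    rw [hw, map_sum]
    refine Eq.trans ?_ (map_sum (eL (G.obj (op 1))) _ _).symm
    have hterm : ∀ j, eL (G.obj (op 1)) (μ j 0 ((eL (G.obj (op 0))).symm (∑ i, c i j • v i))) =
        ∑ i, c i j • H (A := A) 0 (mulTo hG (Nat.le_succ 0) le_rfl (ha1 j)) (v i) := fun j => by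
      refine (eL_map _ _).trans ?_
      rw [LinearEquiv.apply_symm_apply, map_sum]
      exact Finset.sum_congr rfl fun i _ => map_smul _ _ _
    simp only [hterm]
    rw [Finset.sum_comm]
    refine Finset.sum_congr rfl fun i _ => ?_
    rw [← H_comp, toK_ι]
    have hm : ∀ j, c i j * a j ∈ I ^ (0 + 1) := fun j => by
      rw [zero_add, pow_one]; exact Ideal.mul_mem_left _ _ (haI j)
    rw [mulTo_congr hG _ _ (Nat.zero_add _).ge (hb₀ i) (Ideal.sum_mem _ (fun j _ => hm j)) (hbc i),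
      mulTo_sum hG _ _ _ _ hm]
    have e : ∀ j, mulTo hG (Nat.zero_le (0 + 1)) (Nat.zero_add _).ge (hm j) =
        mulTo hG (Nat.le_succ 0) le_rfl (ha1 j) ≫ _root_.Formal.smulMod A (G.obj (op 1)) (c i j) := fun j => by
      refine (eq_mulTo hG _ _ (hm j) _ ?_).symm
      rw [← Category.assoc, T_mulTo, ← Groth.Agent.H78.Formal.Principal.smulMod_mul, mul_comm]
    simp only [e]
    rw [H_sum]
    exact Finset.sum_congr rfl fun j _ => by rw [H_comp, H_smulMod]
  have hgenE : ∀ n x, MLCrit.tr1 S (n + 1) x = 0 → ∃ y : Fin s → S.obj (op (n + 1)),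
      (∀ j, MLCrit.tr1 S n (y j) = 0) ∧ x = ∑ j, μ j (n + 1) (y j) := by
    intro n x hx
    obtain ⟨w, hw⟩ := hker (n + 1) x hx
    obtain ⟨y, rfl⟩ := hKH 0 n w
    refine ⟨fun j => (eL (G.obj (op (n + 1)))).symm (H (A := A) 0 (kernel.ι (T G (Nat.le_succ n))) (y j)),
      fun j => (eL (G.obj (op n))).injective ?_, (eL (G.obj (op (n + 2)))).injective ?_⟩
    · refine (eL_map (T G (Nat.le_succ n)) _).trans ?_
      rw [LinearEquiv.apply_symm_apply, ← H_comp, kernel.condition, H_zero]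
      exact (map_zero (eL (G.obj (op n)))).symm
    · rw [hw, map_sum]
      refine Eq.trans ?_ (map_sum (eL (G.obj (op (n + 2)))) _ _).symm
      refine Finset.sum_congr rfl fun j _ => ?_
      refine Eq.trans ?_ (eL_map _ _).symm
      rw [LinearEquiv.apply_symm_apply, ← H_comp, ← H_comp, κ_ι]
  refine SectLimit.canonicallyExtends G _ rfl (SectTower.killed U G hG)
    (MLCrit.isML a μ htr hμ hkill δ hδ (fun j n => H (A := A) 1 (κ hG (ha1 j) n)) hnat hνcomm hK0 (hKH 1))
    (fun k => MLCrit.exists_ker_le a μ htr hμ hkill hμcomm hE0 hgenE₀ hgenE I haI k) fun n => ?_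
  haveI := MLCrit.finite_level a μ htr hμ hkill hE0 hgenE₀ hgenE n
  infer_instance

end Groth.Agent.H2.CanExt.Crit
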