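import Mathlib.RingTheory.Flat.EquationalCriterion
import Mathlib.RingTheory.LocalRing.MaximalIdeal.Basic
import Mathlib.RingTheory.Ideal.Operations
import Mathlib.RingTheory.Noetherian.Basic

/-!
# Graded pieces of a flat module over a local ring
-/

set_option autoImplicit false

universe u v

namespace Groth.Agent.H2.CanExt.FlatQuasi

open IsLocalRing

variable {R : Type u} [CommRing R] [IsLocalRing R]

/-- A minimal generating family of `𝔪^k` modulo `𝔪^(k+1)`. -/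
theorem exists_basis [IsNoetherianRing R] (k : ℕ) : ∃ (N : ℕ) (t : Fin N → R),
    (∀ i, t i ∈ maximalIdeal R ^ k) ∧
    maximalIdeal R ^ k ≤ Ideal.span (Set.range t) ⊔ maximalIdeal R ^ (k + 1) ∧
    ∀ a : Fin N → R, ∑ i, t i * a i ∈ maximalIdeal R ^ (k + 1) → ∀ i, a i ∈ maximalIdeal R := by
  classical
  have hex : ∃ N, ∃ t : Fin N → R, (∀ i, t i ∈ maximalIdeal R ^ k) ∧
      maximalIdeal R ^ k ≤ Ideal.span (Set.range t) ⊔ maximalIdeal R ^ (k + 1) := by
    obtain ⟨N, t, ht⟩ := Submodule.fg_iff_exists_fin_generating_family.1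
      (IsNoetherian.noetherian (maximalIdeal R ^ k))
    exact ⟨N, t, fun i => ht ▸ Submodule.subset_span ⟨i, rfl⟩, le_sup_of_le_left ht.ge⟩
  obtain ⟨N, hN, hmin⟩ : ∃ N, (∃ t : Fin N → R, (∀ i, t i ∈ maximalIdeal R ^ k) ∧
      maximalIdeal R ^ k ≤ Ideal.span (Set.range t) ⊔ maximalIdeal R ^ (k + 1)) ∧
      ∀ M < N, ¬ ∃ t : Fin M → R, (∀ i, t i ∈ maximalIdeal R ^ k) ∧
      maximalIdeal R ^ k ≤ Ideal.span (Set.range t) ⊔ maximalIdeal R ^ (k + 1) :=
    ⟨Nat.find hex, Nat.find_spec hex, fun M hM => Nat.find_min hex hM⟩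
  obtain ⟨t, ht, hgen⟩ := hN
  refine ⟨N, t, ht, hgen, fun a ha i₀ => ?_⟩
  by_contra hi
  cases N with
  | zero => exact i₀.elim0
  | succ M =>
  refine hmin M M.lt_succ_self ⟨t ∘ i₀.succAbove, fun i => ht _, hgen.trans (sup_le ?_ le_sup_right)⟩
  have hu : IsUnit (a i₀) := IsLocalRing.notMem_maximalIdeal.1 hi
  obtain ⟨u, hu⟩ := hu
  rw [Ideal.span_le]
  rintro _ ⟨i, rfl⟩
  rcases Fin.eq_self_or_eq_succAbove i₀ i with rfl | ⟨j, rfl⟩
  · have e : t i = (∑ j, t j * a j - ∑ j, t (i.succAbove j) * a (i.succAbove j)) * ↑u⁻¹ := by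
      rw [Fin.sum_univ_succAbove _ i, add_sub_cancel_right, ← hu, mul_assoc, Units.mul_inv, mul_one]
    rw [SetLike.mem_coe, e]
    refine Ideal.mul_mem_right _ _ (sub_mem (Ideal.mem_sup_right ha) (Ideal.mem_sup_left ?_))
    exact Submodule.sum_mem _ fun j _ => Ideal.mul_mem_right _ _ (Ideal.subset_span ⟨j, rfl⟩)
  · exact Ideal.mem_sup_left (Ideal.subset_span ⟨j, rfl⟩)

/-- On a flat module, a family independent modulo `𝔪^(k+1)` stays independent. -/
theorem mem_smul_top {M : Type v} [AddCommGroup M] [Module R M] [Module.Flat R M] {k N : ℕ}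
    (t : Fin N → R) (hind : ∀ a : Fin N → R, ∑ i, t i * a i ∈ maximalIdeal R ^ (k + 1) → ∀ i, a i ∈ maximalIdeal R)
    (x : Fin N → M) (h : ∑ i, t i • x i ∈ maximalIdeal R ^ (k + 1) • (⊤ : Submodule R M)) :
    ∀ i, x i ∈ maximalIdeal R • (⊤ : Submodule R M) := by
  classical
  have hrel : ∀ w ∈ maximalIdeal R ^ (k + 1) • (⊤ : Submodule R M), ∃ (L : ℕ) (s : Fin L → R) (z : Fin L → M),
      (∀ l, s l ∈ maximalIdeal R ^ (k + 1)) ∧ w = ∑ l, s l • z l := by
    intro w hw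
    refine Submodule.smul_induction_on hw (fun r hr z _ => ⟨1, fun _ => r, fun _ => z, fun _ => hr, by simp⟩) ?_
    rintro _ _ ⟨L, s, z, hs, rfl⟩ ⟨L', s', z', hs', rfl⟩
    refine ⟨L + L', Fin.append s s', Fin.append z z', fun l => ?_, by simp [Fin.sum_univ_add]⟩
    induction l using Fin.addCases <;> simp [hs, hs']
  obtain ⟨L, s, z, hs, hw⟩ := hrel _ h
  obtain ⟨K, a, y, hay, ha⟩ := Module.Flat.isTrivialRelation_of_sum_smul_eq_zero (ι := Fin N ⊕ Fin L)
    (f := Sum.elim t (fun l => -s l)) (x := Sum.elim x z) (by simp [Fintype.sum_sum_type, hw])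
  intro i
  rw [show x i = ∑ j, a (Sum.inl i) j • y j from hay (Sum.inl i)]
  refine Submodule.sum_mem _ fun j _ => Submodule.smul_mem_smul (hind (fun i => a (Sum.inl i) j) ?_ i) trivial
  have h0 := ha j
  simp only [Fintype.sum_sum_type, Sum.elim_inl, Sum.elim_inr, neg_mul, Finset.sum_neg_distrib] at h0
  rw [← sub_eq_add_neg, sub_eq_zero] at h0
  rw [h0]
  exact Submodule.sum_mem _ fun l _ => Ideal.mul_mem_right _ _ (hs l)

end Groth.Agent.H2.CanExt.FlatQuasi
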