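import Groth.Agent.H78.Formal.ProLim
import Groth.Agent.H78.Formal.ProML
import Groth.Prelude.Def_ARSys
import Mathlib.RingTheory.FiniteType
import Mathlib.RingTheory.Noetherian.Basic

/-!
# Towers with finitely generated graded pieces of kernels and obstructions

`isML`: the Mittag-Leffler condition from finiteness of the graded obstruction module;
`exists_ker_le`: comparison of the limit topology with the adic one.
-/

set_option autoImplicit false
set_option linter.unusedSectionVars false
set_option linter.style.haveILetI false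

universe u

open CategoryTheory Limits Opposite

namespace Groth.Agent.H2.CanExt.MLCrit

open Groth.Agent.H78.Formal

section Shift

variable {A : Type u} [CommRing A] {W : ℕ → Type u} [∀ n, AddCommGroup (W n)] [∀ n, Module A (W n)]

/-- The shift by a family of degree one maps. -/
noncomputable def shift (μ : ∀ n, W n →ₗ[A] W (n + 1)) : Module.End A (∀ n, W n) :=
  LinearMap.pi fun n => match n with
    | 0 => 0
    | n + 1 => μ n ∘ₗ LinearMap.proj n

theorem shift_zero (μ : ∀ n, W n →ₗ[A] W (n + 1)) (v : ∀ n, W n) : shift μ v 0 = 0 := rfl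

theorem shift_succ (μ : ∀ n, W n →ₗ[A] W (n + 1)) (v : ∀ n, W n) (n : ℕ) :
    shift μ v (n + 1) = μ n (v n) := rfl

theorem shift_single [DecidableEq ℕ] (μ : ∀ n, W n →ₗ[A] W (n + 1)) (n : ℕ) (x : W n) :
    shift μ (Pi.single n x) = Pi.single (n + 1) (μ n x) := by
  funext k
  cases k with
  | zero => rw [shift_zero, Pi.single_eq_of_ne (Nat.succ_ne_zero n).symm]
  | succ k =>
    rw [shift_succ]
    rcases eq_or_ne k n with rfl | h
    · rw [Pi.single_eq_same, Pi.single_eq_same]
    · rw [Pi.single_eq_of_ne h, map_zero, Pi.single_eq_of_ne (fun e => h (Nat.succ_injective e))]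

/-- An increasing chain of submodules closed under commuting shifts, inside the closure of finitely
many elements, stabilizes. -/
theorem stabilizes [IsNoetherianRing A] {s : ℕ} (μ : Fin s → ∀ n, W n →ₗ[A] W (n + 1))
    (hcomm : ∀ i j n x, μ i (n + 1) (μ j n x) = μ j (n + 1) (μ i n x))
    (W₀ : Module.Finite A (W 0))
    (hgen : ∀ n (x : W (n + 1)), ∃ y : Fin s → W n, x = ∑ j, μ j n (y j))
    (B : ℕ → Submodule A (∀ n, W n)) (hmono : Monotone B)
    (hstab : ∀ r j v, v ∈ B r → shift (μ j) v ∈ B r) :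
    ∃ r₀, ∀ r n x, Pi.single n x ∈ B r → Pi.single n x ∈ B r₀ := by
  classical
  have hcT : ∀ a ∈ Set.range (fun j => shift (μ j)), ∀ b ∈ Set.range (fun j => shift (μ j)),
      a * b = b * a := by
    rintro _ ⟨i, rfl⟩ _ ⟨j, rfl⟩
    refine LinearMap.ext fun v => funext fun n => ?_
    match n with
    | 0 => rfl
    | 1 => simp [Module.End.mul_apply, shift_succ, shift_zero]
    | n + 2 => exact hcomm i j n (v n)
  let S := Algebra.adjoin A (Set.range (fun j => shift (μ j)))
  letI : CommRing S := Algebra.adjoinCommRingOfComm A hcT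
  haveI : Algebra.FiniteType A S :=
    (Subalgebra.fg_iff_finiteType _).1 (Subalgebra.fg_adjoin_finset (Finset.univ.image fun j => shift (μ j)) |>
      fun h => by simpa [S] using h)
  haveI : IsNoetherianRing S := Algebra.FiniteType.isNoetherianRing A S
  obtain ⟨G, hG⟩ := W₀.fg_top
  let W' : Submodule S (∀ n, W n) := Submodule.span S ((fun x => Pi.single 0 x) '' (G : Set (W 0)))
  haveI : Module.Finite S W' :=
    Module.Finite.iff_fg.2 (Submodule.fg_span (G.finite_toSet.image _))
  haveI : IsNoetherian S W' := isNoetherian_of_isNoetherianRing_of_finite _ _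
  have hsmulA : ∀ (a : A) (v : ∀ n, W n), v ∈ W' → a • v ∈ W' := fun a v hv => by
    rw [show a • v = (algebraMap A S a) • v from rfl]
    exact W'.smul_mem _ hv
  have hW' : ∀ n (x : W n), Pi.single n x ∈ W' := fun n => by
    induction n with
    | zero =>
      intro x
      have hx : x ∈ Submodule.span A (G : Set (W 0)) := hG ▸ Submodule.mem_top
      induction hx using Submodule.span_induction with
      | mem x hx => exact Submodule.subset_span ⟨x, hx, rfl⟩
      | zero => rw [Pi.single_zero]; exact zero_mem _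
      | add x y _ _ hx hy => rw [Pi.single_add]; exact add_mem hx hy
      | smul a x _ hx => rw [Pi.single_smul]; exact hsmulA a _ hx
    | succ n ih =>
      intro x
      obtain ⟨y, rfl⟩ := hgen n x
      rw [show (Pi.single (n + 1) (∑ j, μ j n (y j)) : ∀ n, W n) = ∑ j, Pi.single (n + 1) (μ j n (y j)) from
        map_sum (AddMonoidHom.single W (n + 1)) _ _]
      refine Submodule.sum_mem _ fun j _ => ?_
      rw [← shift_single]
      exact W'.smul_mem (⟨shift (μ j), Algebra.subset_adjoin ⟨j, rfl⟩⟩ : S) (ih (y j))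
  have hBS : ∀ r (t : S) v, v ∈ B r → t • v ∈ B r := by
    rintro r ⟨t, ht⟩
    induction ht using Algebra.adjoin_induction with
    | mem t ht =>
      obtain ⟨j, rfl⟩ := ht
      exact hstab r j
    | algebraMap a => exact fun v hv => (B r).smul_mem a hv
    | add t t' _ _ h h' => exact fun v hv => (B r).add_mem (h v hv) (h' v hv)
    | mul t t' _ _ h h' => exact fun v hv => h _ (h' v hv)
  let B' : ℕ → Submodule S W' := fun r =>
    Submodule.comap W'.subtype
      { carrier := B r
        add_mem' := fun h h' => (B r).add_mem h h'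
        zero_mem' := (B r).zero_mem
        smul_mem' := fun t v hv => hBS r t v hv }
  obtain ⟨r₀, hr₀⟩ := monotone_stabilizes_iff_noetherian.2 (inferInstance : IsNoetherian S W')
    ⟨B', fun a b h v hv => hmono h hv⟩
  refine ⟨r₀, fun r n x hx => ?_⟩
  have h1 : (⟨Pi.single n x, hW' n x⟩ : W') ∈ B' (max r r₀) := hmono (le_max_left _ _) hx
  exact (hr₀ (max r r₀) (le_max_right _ _)).ge h1

end Shift

variable {A : Type u} [CommRing A] {X : ARSys.PS (ModuleCat.{u} A)}

/-- The transition of one step. -/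
noncomputable abbrev tr1 (X : ARSys.PS (ModuleCat.{u} A)) (n : ℕ) :
    X.obj (op (n + 1)) →ₗ[A] X.obj (op n) :=
  (ARSys.tr X (Nat.le_succ n)).hom

/-- Elements which die `r` steps below (or anywhere, below zero). -/
noncomputable def dies (X : ARSys.PS (ModuleCat.{u} A)) : ∀ (r n : ℕ), Submodule A (X.obj (op n))
  | 0, _ => ⊥
  | _ + 1, 0 => ⊤
  | r + 1, n + 1 => (dies X r n).comap (tr1 X n)

theorem dies_mono : ∀ (r n : ℕ), dies X r n ≤ dies X (r + 1) n
  | 0, _ => bot_le
  | _ + 1, 0 => le_rfl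
  | r + 1, n + 1 => Submodule.comap_mono (dies_mono r n)

theorem mem_dies_of_lt : ∀ (r n : ℕ), n < r → dies X r n = ⊤
  | 0, _, h => absurd h (Nat.not_lt_zero _)
  | _ + 1, 0, _ => rfl
  | r + 1, n + 1, h => by rw [dies, mem_dies_of_lt r n (by omega), Submodule.comap_top]

theorem tr_eq_zero_of_mem_dies : ∀ (r n : ℕ) {j : ℕ} (h : j ≤ n), j + r ≤ n → ∀ x ∈ dies X r n,
    (ARSys.tr X h).hom x = 0
  | 0, _, _, _, _, x, hx => by rw [(Submodule.mem_bot A).1 hx, map_zero]
  | r + 1, 0, _, _, hjr, _, _ => absurd hjr (by omega)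
  | r + 1, n + 1, j, h, hjr, x, hx => by
    rw [← ProLim.tr_tr X (show j ≤ n by omega) (Nat.le_succ n)]
    exact tr_eq_zero_of_mem_dies r n _ (by omega) _ hx

variable {s : ℕ} (a : Fin s → A) (μ : Fin s → ∀ n, X.obj (op n) →ₗ[A] X.obj (op (n + 1)))
  (htr : ∀ j n x, tr1 X n (μ j n x) = a j • x)
  (hμ : ∀ j n x, μ j n (tr1 X n x) = a j • x)
  (hkill : ∀ j (x : X.obj (op 0)), a j • x = 0)

include htr hμ hkill

theorem μ_dies (j : Fin s) : ∀ (r n : ℕ), ∀ x ∈ dies X r n, μ j n x ∈ dies X r (n + 1)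
  | 0, n, x, hx => by
    rw [(Submodule.mem_bot A).1 hx, map_zero]
    exact zero_mem _
  | r + 1, 0, x, _ => by
    show tr1 X 0 (μ j 0 x) ∈ dies X r 0
    rw [htr, hkill]
    exact zero_mem _
  | r + 1, n + 1, x, hx => by
    show tr1 X (n + 1) (μ j (n + 1) x) ∈ dies X r (n + 1)
    rw [htr, ← hμ]
    exact μ_dies j r n _ hx

variable [IsNoetherianRing A]
  {H : ℕ → Type u} [∀ n, AddCommGroup (H n)] [∀ n, Module A (H n)]
  (δ : ∀ n, X.obj (op n) →ₗ[A] H n)
  (hδ : ∀ n x, δ n x = 0 → ∃ y, tr1 X n y = x)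
  (ν : Fin s → ∀ n, H n →ₗ[A] H (n + 1))
  (hnat : ∀ j n x, δ (n + 1) (μ j n x) = ν j n (δ n x))
  (hνcomm : ∀ i j n x, ν i (n + 1) (ν j n x) = ν j (n + 1) (ν i n x))
  (hH0 : Module.Finite A (H 0))
  (hgen : ∀ n (x : H (n + 1)), ∃ y : Fin s → H n, x = ∑ j, ν j n (y j))

include hδ hnat hνcomm hH0 hgen in
/-- Mittag-Leffler from a finitely generated obstruction module. -/
theorem isML : ARSys.IsML X := by
  classical
  let B : ℕ → Submodule A (∀ n, H n) := fun r =>
    Submodule.pi Set.univ fun n => (dies X r n).map (δ n)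
  obtain ⟨r₀, hr₀⟩ := stabilizes ν hνcomm hH0 hgen B
    (monotone_nat_of_le_succ fun r v hv n hn => Submodule.map_mono (dies_mono r n) (hv n hn))
    fun r j v hv n _ => by
      cases n with
      | zero => rw [shift_zero]; exact zero_mem _
      | succ n =>
        obtain ⟨x, hx, hxv⟩ := hv n trivial
        rw [shift_succ]
        exact ⟨μ j n x, μ_dies a μ htr hμ hkill j r n x hx, by rw [hnat, hxv]⟩
  have hstep : ∀ n (x : X.obj (op n)), ∃ x' ∈ dies X r₀ n, ∃ y, tr1 X n y = x - x' := fun n x => by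
    have h1 : Pi.single n (δ n x) ∈ B (n + 1) := fun k _ => by
      rcases eq_or_ne k n with rfl | hk
      · rw [Pi.single_eq_same]
        exact ⟨x, (mem_dies_of_lt (X := X) (k + 1) k (Nat.lt_succ_self k)).ge trivial, rfl⟩
      · rw [Pi.single_eq_of_ne hk]
        exact zero_mem _
    obtain ⟨x', hx', he⟩ := hr₀ _ _ _ h1 n trivial
    rw [Pi.single_eq_same] at he
    exact ⟨x', hx', hδ n _ (by rw [map_sub, he, sub_self])⟩
  intro n
  refine ⟨r₀, fun t ht => ProLim.imageSubobject_eq_of_range _ _ ?_⟩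
  show LinearMap.range (ARSys.tr X (Nat.le_add_right n t)).hom =
    LinearMap.range (ARSys.tr X (Nat.le_add_right n r₀)).hom
  induction ht with
  | refl => rfl
  | @step t ht ih =>
    rw [← ih]
    refine le_antisymm ?_ ?_
    · rintro _ ⟨z, rfl⟩
      exact ⟨tr1 X (n + t) z, ProLim.tr_tr X _ _ z⟩
    · rintro _ ⟨z, rfl⟩
      obtain ⟨x', hx', y, hy⟩ := hstep (n + t) z
      refine ⟨y, ?_⟩
      have h0 := tr_eq_zero_of_mem_dies r₀ (n + t) (Nat.le_add_right n t)
        (Nat.add_le_add_left ht n) x' hx'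
      refine (ProLim.tr_tr X (Nat.le_add_right n t) (Nat.le_succ (n + t)) y).symm.trans ?_
      rw [hy, map_sub, h0, sub_zero]

variable (hμcomm : ∀ i j n x, μ i (n + 1) (μ j n x) = μ j (n + 1) (μ i n x))
  (hE0 : Module.Finite A (X.obj (op 0)))
  (hgenE₀ : ∀ x, tr1 X 0 x = 0 → ∃ y : Fin s → X.obj (op 0), x = ∑ j, μ j 0 (y j))
  (hgenE : ∀ n x, tr1 X (n + 1) x = 0 →
    ∃ y : Fin s → X.obj (op (n + 1)), (∀ j, tr1 X n (y j) = 0) ∧ x = ∑ j, μ j (n + 1) (y j))

omit [∀ n, AddCommGroup (H n)] in
include hE0 hgenE₀ hgenE in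
theorem finite_kernel : ∀ n, Module.Finite A (LinearMap.ker (tr1 X n))
  | 0 => by
    let φ : (Fin s → X.obj (op 0)) →ₗ[A] LinearMap.ker (tr1 X 0) :=
      LinearMap.codRestrict _ (∑ j, μ j 0 ∘ₗ LinearMap.proj j) fun y => by
        rw [LinearMap.mem_ker, LinearMap.sum_apply, map_sum]
        exact Finset.sum_eq_zero fun j _ => (htr j 0 _).trans (hkill j _)
    haveI := hE0
    refine Module.Finite.of_surjective φ fun x => ?_
    obtain ⟨y, hy⟩ := hgenE₀ x.1 x.2
    exact ⟨y, Subtype.ext (by rw [hy]; simp [φ])⟩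
  | n + 1 => by
    haveI := finite_kernel n
    let φ : (Fin s → LinearMap.ker (tr1 X n)) →ₗ[A] LinearMap.ker (tr1 X (n + 1)) :=
      LinearMap.codRestrict _ (∑ j, μ j (n + 1) ∘ₗ (LinearMap.ker (tr1 X n)).subtype ∘ₗ LinearMap.proj j)
        fun y => by
          rw [LinearMap.mem_ker, LinearMap.sum_apply, map_sum]
          refine Finset.sum_eq_zero fun j _ => (htr j (n + 1) _).trans ?_
          rw [← hμ j n]
          exact (congrArg _ (y j).2).trans (map_zero _)
    refine Module.Finite.of_surjective φ fun x => ?_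
    obtain ⟨y, hy0, hy⟩ := hgenE n x.1 x.2
    exact ⟨fun j => ⟨y j, hy0 j⟩, Subtype.ext (by rw [hy]; simp [φ])⟩

omit [∀ n, AddCommGroup (H n)] in
include hE0 hgenE₀ hgenE in
theorem finite_level : ∀ n, Module.Finite A (X.obj (op n))
  | 0 => hE0
  | n + 1 => by
    haveI := finite_level n
    haveI := finite_kernel a μ htr hμ hkill hE0 hgenE₀ hgenE n
    haveI : Module.Finite A (X.obj (op (n + 1)) ⧸ LinearMap.ker (tr1 X n)) :=
      Module.Finite.equiv (tr1 X n).quotKerEquivRange.symm
    exact Module.Finite.of_submodule_quotient (LinearMap.ker (tr1 X n))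

omit [∀ n, AddCommGroup (H n)] in
include hμcomm hE0 hgenE₀ hgenE in
/-- The limit topology is the adic one. -/
theorem exists_ker_le (I : Ideal A) (haI : ∀ j, a j ∈ I) (k : ℕ) :
    ∃ n, LinearMap.ker (limit.π X (op n)).hom ≤ I ^ k • (⊤ : Submodule A ↑(limit X)) := by
  classical
  let π : ∀ n, ↑(limit X) →ₗ[A] X.obj (op n) := fun n => (limit.π X (op n)).hom
  have hπtr : ∀ n x, tr1 X n (π (n + 1) x) = π n x := fun n x =>
    congrArg (fun φ : limit X ⟶ X.obj (op n) => φ.hom x) (limit.w X (homOfLE (Nat.le_succ n)).op)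
  let gr : ∀ n, Submodule A (X.obj (op n)) := fun n => match n with
    | 0 => ⊤
    | n + 1 => LinearMap.ker (tr1 X n)
  have hμgr : ∀ j n, ∀ x ∈ gr n, μ j n x ∈ gr (n + 1) := fun j n x hx => by
    show tr1 X n (μ j n x) = 0
    rw [htr]
    cases n with
    | zero => exact hkill j x
    | succ n => rw [← hμ j n, show tr1 X n x = 0 from hx, map_zero]
  let W : ℕ → Type u := fun n => gr n
  let μ' : Fin s → ∀ n, W n →ₗ[A] W (n + 1) := fun j n => (μ j n).restrict (hμgr j n)
  -- images of the kernels of the projections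
  let Q : ∀ n, Submodule A (W n) := fun n =>
    Submodule.comap (gr n).subtype (match n with
      | 0 => LinearMap.range (π 0)
      | n + 1 => (LinearMap.ker (π n)).map (π (n + 1)))
  have hQμ : ∀ j n, ∀ x ∈ Q n, μ' j n x ∈ Q (n + 1) := fun j n x hx => by
    show μ j n x.1 ∈ (LinearMap.ker (π n)).map (π (n + 1))
    have key : ∀ y, π n y = x.1 → a j • y ∈ LinearMap.ker (π n) → μ j n x.1 ∈ (LinearMap.ker (π n)).map (π (n + 1)) :=
      fun y hy hk => ⟨a j • y, hk, by rw [map_smul, ← hμ j n, hπtr, hy]⟩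
    cases n with
    | zero =>
      obtain ⟨y, hy⟩ := hx
      replace hy : π 0 y = x.1 := hy
      exact key y hy (by rw [LinearMap.mem_ker, map_smul, hy, hkill])
    | succ n =>
      obtain ⟨y, hy0, hy⟩ := hx
      replace hy : π (n + 1) y = x.1 := hy
      refine key y hy ?_
      rw [LinearMap.mem_ker, map_smul, hy, ← hμ j n, show tr1 X n x.1 = 0 from x.2, map_zero]
  let C : ℕ → Submodule A (∀ n, W n) := fun m =>
    Submodule.pi Set.univ fun n => Q n ⊓
      (if n ≤ m then ⊤ else match n with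
        | 0 => ⊤
        | n + 1 => ⨆ j, (Q n).map (μ' j n))
  obtain ⟨m₀, hm₀⟩ := stabilizes μ' (fun i j n x => Subtype.ext (hμcomm i j n x.1))
    (Module.Finite.equiv (LinearEquiv.ofTop _ rfl).symm)
    (fun n x => by
      cases n with
      | zero =>
        obtain ⟨y, hy⟩ := hgenE₀ x.1 x.2
        exact ⟨fun j => ⟨y j, trivial⟩, Subtype.ext (by rw [hy, Submodule.coe_sum]; rfl)⟩
      | succ n =>
        obtain ⟨y, hy0, hy⟩ := hgenE n x.1 x.2
        exact ⟨fun j => ⟨y j, hy0 j⟩, Subtype.ext (by rw [hy, Submodule.coe_sum]; rfl)⟩)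
    C (fun m m' h v hv n hn => ⟨(hv n hn).1, by
      have := (hv n hn).2
      split_ifs at this ⊢ <;> first | trivial | exact this | omega⟩)
    (fun m j v hv n _ => by
      cases n with
      | zero => rw [shift_zero]; exact zero_mem _
      | succ n =>
        rw [shift_succ]
        refine ⟨hQμ j n _ (hv n trivial).1, ?_⟩
        split_ifs
        · trivial
        · exact Submodule.mem_iSup_of_mem j ⟨_, (hv n trivial).1, rfl⟩)
  -- one step of approximation
  have hstep : ∀ n, m₀ < n + 2 → ∀ x, π (n + 1) x = 0 → ∃ l : Fin s → ↑(limit X),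
      (∀ j, π n (l j) = 0) ∧ π (n + 2) (x - ∑ j, a j • l j) = 0 := by
    intro n hn x hx
    let w : W (n + 2) := ⟨π (n + 2) x, (hπtr (n + 1) x).trans hx⟩
    have hw : Pi.single (n + 2) w ∈ C (n + 2) := fun i _ => by
      rcases eq_or_ne i (n + 2) with rfl | hi
      · rw [Pi.single_eq_same]
        exact ⟨⟨x, hx, rfl⟩, by rw [if_pos le_rfl]; trivial⟩
      · rw [Pi.single_eq_of_ne hi]
        exact zero_mem _
    have h2 := (hm₀ _ _ _ hw (n + 2) trivial).2
    rw [if_neg (by omega), Pi.single_eq_same] at h2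
    obtain ⟨z, hzsum⟩ := (Submodule.mem_iSup_iff_exists_finsupp _ _).1 h2
    have hz : ∀ j, ∃ y, π n y = 0 ∧ (z j).1 = a j • π (n + 2) y := fun j => by
      obtain ⟨q, hq, hqz⟩ := hzsum.1 j
      obtain ⟨y, hy, hyq⟩ := hq
      replace hyq : π (n + 1) y = q.1 := hyq
      refine ⟨y, hy, ?_⟩
      rw [← hqz]
      show μ j (n + 1) q.1 = _
      rw [← hyq, ← hπtr (n + 1) y, hμ]
    choose l hl hlz using hz
    refine ⟨l, hl, ?_⟩
    rw [map_sub, map_sum, sub_eq_zero]
    have he : π (n + 2) x = (z.sum fun _ v => v).1 := (congrArg Subtype.val hzsum.2).symm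
    rw [he, Finsupp.sum_fintype _ _ (fun _ => rfl), Submodule.coe_sum]
    exact Finset.sum_congr rfl fun j _ => by rw [hlz, map_smul]
  -- exact generation of deep kernels
  have hker : ∀ n, m₀ < n + 2 →
      LinearMap.ker (π (n + 1)) ≤ I • LinearMap.ker (π n) := by
    intro n hn x hx
    have hs : ∀ t (y : ↑(limit X)), ∃ l : Fin s → ↑(limit X), π (n + t + 1) y = 0 →
        (∀ j, π (n + t) (l j) = 0) ∧ π (n + t + 2) (y - ∑ j, a j • l j) = 0 := fun t y => by
      by_cases hy : π (n + t + 1) y = 0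
      · obtain ⟨l, hl⟩ := hstep (n + t) (by omega) y hy
        exact ⟨l, fun _ => hl⟩
      · exact ⟨0, fun h => absurd h hy⟩
    choose l hl using hs
    let y : ℕ → ↑(limit X) := fun t => Nat.rec x (fun t y => y - ∑ j, a j • l t y j) t
    have hy : ∀ t, π (n + t + 1) (y t) = 0 := fun t => by
      induction t with
      | zero => exact hx
      | succ t ih => exact (hl t (y t) ih).2
    let Y : Fin s → ℕ → ↑(limit X) := fun j T => ∑ t ∈ Finset.range T, l t (y t) j
    have hlow : ∀ {p q : ℕ} (z : ↑(limit X)), p ≤ q → π q z = 0 → π p z = 0 := fun {p q} z hpq hq => by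
      induction hpq with
      | refl => exact hq
      | @step q _ ih => exact ih (by rw [← hπtr, hq, map_zero])
    have hYc : ∀ j i, tr1 X i (π (i + 1) (Y j (i + 2))) = π i (Y j (i + 1)) := fun j i => by
      rw [hπtr, show Y j (i + 2) = Y j (i + 1) + l (i + 1) (y (i + 1)) j from Finset.sum_range_succ _ _,
        map_add, hlow _ (show i ≤ n + (i + 1) by omega) ((hl (i + 1) _ (hy _)).1 j), add_zero]
    choose L hL using fun j => ProML.exists_limit_elem X (fun i => π i (Y j (i + 1))) (hYc j)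
    have hyY : ∀ T, x - ∑ j, a j • Y j T = y T := fun T => by
      induction T with
      | zero => simp [Y, y]
      | succ T ih =>
        show x - ∑ j, a j • (∑ t ∈ Finset.range (T + 1), l t (y t) j) = y T - ∑ j, a j • l T (y T) j
        simp only [Finset.sum_range_succ, smul_add, Finset.sum_add_distrib]
        rw [← sub_sub]
        exact congrArg (fun z => z - ∑ j, a j • l T (y T) j) ih
    have hxL : x = ∑ j, a j • L j := by
      refine Concrete.limit_ext X _ _ fun i => ?_
      obtain ⟨i⟩ := i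
      show π i x = π i (∑ j, a j • L j)
      have h1 := hlow (y (i + 1)) (show i ≤ n + (i + 1) + 1 by omega) (hy (i + 1))
      rw [← hyY (i + 1), map_sub, sub_eq_zero] at h1
      rw [h1, map_sum, map_sum]
      exact Finset.sum_congr rfl fun j _ => by
        rw [map_smul, map_smul]
        exact congrArg _ (hL j i).symm
    rw [hxL]
    refine Submodule.sum_mem _ fun j _ => Submodule.smul_mem_smul (haI j) ?_
    show π n (L j) = 0
    refine (hL j n).trans ?_
    rw [map_sum]
    exact Finset.sum_eq_zero fun t _ => hlow _ (Nat.le_add_right n t) ((hl t _ (hy t)).1 j)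
  refine ⟨m₀ + k, ?_⟩
  induction k with
  | zero =>
    rw [pow_zero, Ideal.one_eq_top, Submodule.top_smul]
    exact le_top
  | succ k ih =>
    refine (hker (m₀ + k) (by omega)).trans ?_
    rw [pow_succ', Submodule.mul_smul]
    exact Submodule.smul_mono le_rfl ih

end Groth.Agent.H2.CanExt.MLCrit
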