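import Groth.Agent.Lib.Regular45.QuasiReg
import Groth.Agent.Lib.Grass.RegSeq
import Mathlib.Algebra.TrivSqZeroExt.Basic
import Mathlib.Algebra.MvPolynomial.Equiv

/-!
# A sequence weakly regular on a module is quasi-regular on it
-/

set_option autoImplicit false
set_option linter.style.haveILetI false

universe u v

open MvPolynomial RingTheory.Sequence CAlgX

namespace Groth.Agent.H2.CanExt.ModQuasi

open Groth.Agent.Lib

theorem isWeaklyRegular_X (d : ℕ) :
    IsWeaklyRegular (MvPolynomial (Fin d) (ULift.{u} ℤ))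
      (List.ofFn fun i : Fin d => (MvPolynomial.X i : MvPolynomial (Fin d) (ULift.{u} ℤ))) := by
  haveI : IsDomain (ULift.{u} ℤ) := MulEquiv.isDomain ℤ ULift.ringEquiv.toMulEquiv
  simpa using Grass.RegSeq.isWeaklyRegular_X_sub_C d (fun _ => (0 : ULift.{u} ℤ))

/-- Coefficients of a form of degree `m` with values in `(f)^(m+1) M` lie in `(f) M`. -/
theorem coeff_mem {R : Type v} [CommRing R] {M : Type u} [AddCommGroup M] [Module R M] {d : ℕ}
    (f : Fin d → R) (hf : IsWeaklyRegular M (List.ofFn f)) (m : ℕ) {ι : Type*} [Fintype ι]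
    (e : ι → (Fin d →₀ ℕ)) (he : Function.Injective e) (hdeg : ∀ i, Finsupp.weight 1 (e i) = m)
    (x : ι → M)
    (h : ∑ i, ((e i).prod fun j k => f j ^ k) • x i ∈ Ideal.span (Set.range f) ^ (m + 1) • (⊤ : Submodule R M)) :
    ∀ i, x i ∈ Ideal.span (Set.range f) • (⊤ : Submodule R M) := by
  classical
  let P := MvPolynomial (Fin d) (ULift.{u} ℤ)
  let ev : P →+* R := eval₂Hom ((Int.castRingHom R).comp ULift.ringEquiv.toRingHom) f
  have hevX : ∀ j, ev (X j) = f j := fun j => eval₂Hom_X' _ _ _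
  letI : Module P M := Module.compHom M ev
  letI : Module Pᵐᵒᵖ M := Module.compHom M ((RingHom.id P).fromOpposite mul_comm)
  haveI : IsCentralScalar P M := ⟨fun _ _ => rfl⟩
  let B := TrivSqZeroExt P M
  have hsmul : ∀ (p : P) (y : M), p • y = ev p • y := fun _ _ => rfl
  let g : Fin d → B := fun j => TrivSqZeroExt.inl (X j)
  let iM : M →ₗ[P] B := TrivSqZeroExt.inrHom P M
  let pB : B →ₗ[P] P :=
    { toFun := TrivSqZeroExt.fst, map_add' := TrivSqZeroExt.fst_add, map_smul' := fun p b => TrivSqZeroExt.fst_smul p b }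
  have hBP : IsWeaklyRegular B (List.ofFn fun i : Fin d => (X i : P)) := by
    refine Grass.RegSeq.weaklyRegular_middle P _ iM pB TrivSqZeroExt.inr_injective (fun b => ?_)
      (fun p => ⟨TrivSqZeroExt.inl p, rfl⟩) ?_ (isWeaklyRegular_X d)
    · refine ⟨fun hb => ⟨b.snd, TrivSqZeroExt.ext hb.symm rfl⟩, ?_⟩
      rintro ⟨y, rfl⟩
      rfl
    · refine ((AddEquiv.refl M).isWeaklyRegular_congr ?_).1 hf
      rw [List.forall₂_iff_get]
      refine ⟨by simp, fun i h₁ h₂ y => ?_⟩
      simp [hsmul, hevX]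
  have hBB : IsWeaklyRegular B (List.ofFn g) := by
    have h1 := (isWeaklyRegular_map_algebraMap_iff B B (List.ofFn fun i : Fin d => (X i : P))).2 hBP
    rwa [List.map_ofFn] at h1
  have hq := Regular45.QuasiReg.quasiRegular_of_isWeaklyRegular g hBB
  have hgspan : Ideal.span (Set.range g) =
      (Ideal.span (Set.range fun i : Fin d => (X i : P))).map (algebraMap P B) := by
    rw [Ideal.map_span, ← Set.range_comp]
    rfl
  have hrevspan : Ideal.span (Set.range f) = (Ideal.span (Set.range fun i : Fin d => (X i : P))).map ev := by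
    rw [Ideal.map_span, ← Set.range_comp]
    exact congrArg (fun φ : Fin d → R => Ideal.span (Set.range φ)) (funext fun j => (hevX j).symm)
  -- `(f)^k M` lands in `(g)^k`
  have hin : ∀ (k : ℕ), ∀ y ∈ Ideal.span (Set.range f) ^ k • (⊤ : Submodule R M),
      (TrivSqZeroExt.inr y : B) ∈ Ideal.span (Set.range g) ^ k := by
    intro k y hy
    rw [hrevspan, ← Ideal.map_pow] at hy
    have key : ∀ r ∈ (Ideal.span (Set.range fun i : Fin d => (X i : P)) ^ k).map ev, ∀ z : M,
        (TrivSqZeroExt.inr (r • z) : B) ∈ Ideal.span (Set.range g) ^ k := by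
      intro r hr
      induction hr using Submodule.span_induction with
      | mem r hr =>
        obtain ⟨p, hp, rfl⟩ := hr
        intro z
        rw [← hsmul, ← TrivSqZeroExt.inl_mul_inr, hgspan, ← Ideal.map_pow]
        exact Ideal.mul_mem_right _ _ (Ideal.mem_map_of_mem _ hp)
      | zero => intro z; rw [zero_smul, TrivSqZeroExt.inr_zero]; exact zero_mem _
      | add a b _ _ ha hb => intro z; rw [add_smul, TrivSqZeroExt.inr_add]; exact add_mem (ha z) (hb z)
      | smul c a _ ha => intro z; rw [smul_eq_mul, mul_comm, mul_smul]; exact ha _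
    refine Submodule.smul_induction_on hy (fun r hr z _ => key r hr z) fun a b ha hb => ?_
    rw [TrivSqZeroExt.inr_add]
    exact add_mem ha hb
  -- `(g)` meets `M` in `(f) M`
  have hout : ∀ b ∈ Ideal.span (Set.range g), ∀ y, b = (TrivSqZeroExt.inr y : B) →
      y ∈ Ideal.span (Set.range f) • (⊤ : Submodule R M) := by
    intro b hb y hy
    obtain ⟨c, hc⟩ := (Submodule.mem_span_range_iff_exists_fun B).1 hb
    have h1 := congrArg TrivSqZeroExt.snd (hc.trans hy)
    rw [TrivSqZeroExt.snd_inr, TrivSqZeroExt.snd_sum] at h1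
    rw [← h1]
    refine Submodule.sum_mem _ fun j _ => ?_
    rw [smul_eq_mul, TrivSqZeroExt.snd_mul, TrivSqZeroExt.fst_inl, TrivSqZeroExt.snd_inl, smul_zero, zero_add,
      op_smul_eq_smul, hsmul, hevX]
    exact Submodule.smul_mem_smul (Ideal.subset_span ⟨j, rfl⟩) trivial
  intro i
  let Q : MvPolynomial (Fin d) B := ∑ i, monomial (e i) (TrivSqZeroExt.inr (x i))
  have hQ : Q.IsHomogeneous m := IsHomogeneous.sum _ _ _ fun i _ => isHomogeneous_monomial _ (by
    rw [Finsupp.degree_eq_weight_one]; exact hdeg i)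
  have heval : eval g Q = TrivSqZeroExt.inr (∑ i, ((e i).prod fun j k => f j ^ k) • x i) := by
    rw [map_sum, TrivSqZeroExt.inr_sum]
    refine Finset.sum_congr rfl fun i _ => ?_
    rw [eval_monomial]
    have e1 : ((e i).prod fun j k => g j ^ k) =
        (TrivSqZeroExt.inl ((e i).prod fun j k => (X j : P) ^ k) : B) := by
      rw [show (TrivSqZeroExt.inl ((e i).prod fun j k => (X j : P) ^ k) : B) =
        algebraMap P B ((e i).prod fun j k => (X j : P) ^ k) from rfl, map_finsuppProd]
      simp only [map_pow]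
      rfl
    rw [e1, mul_comm, TrivSqZeroExt.inl_mul_inr, hsmul, map_finsuppProd]
    simp only [map_pow, hevX]
  have hc := hq m Q hQ (heval ▸ hin (m + 1) _ h) (e i)
  refine hout _ hc (x i) ?_
  rw [coeff_sum, Finset.sum_eq_single i]
  · rw [coeff_monomial, if_pos rfl]
  · intro j _ hj
    rw [coeff_monomial, if_neg fun h => hj (he h)]
  · exact fun h => absurd (Finset.mem_univ i) h

/-- Monomials generate the powers. -/
theorem span_pow_le {R : Type*} [CommRing R] {d : ℕ} (f : Fin d → R) (m : ℕ) :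
    Ideal.span (Set.range f) ^ m ≤ Ideal.span (Set.range fun e : {e : Fin d →₀ ℕ // Finsupp.weight 1 e = m} =>
      e.1.prod fun j k => f j ^ k) := by
  intro y hy
  obtain ⟨Q, hQ, rfl⟩ := (Ideal.mem_span_pow_iff_exists_isHomogeneous f y).1 hy
  rw [Q.as_sum, map_sum]
  refine Ideal.sum_mem _ fun e he => ?_
  rw [eval_monomial]
  exact Ideal.mul_mem_left _ _ (Ideal.subset_span ⟨⟨e, hQ (mem_support_iff.1 he)⟩, rfl⟩)

end Groth.Agent.H2.CanExt.ModQuasi
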