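import Groth.Agent.H2.CanExt.Crit
import Groth.Agent.H78.Formal.Sys
import Groth.Agent.Lib.Adic.Limit
import Groth.Agent.Lib.Modules.StalkModule
import Groth.Prelude.Def_Algz2
import Mathlib.RingTheory.AdicCompletion.Functoriality

/-!
# Graded pieces of a coherent formal module, tested on completed stalks

`isIso_desc`: multiplication by finitely many elements `b` of `I^(n+1)` gives an isomorphism from a power
of `G_0` to `ker(G_{n+1} → G_n)` if at every point they generate the `(n+1)`-st power of the stalk ideal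
modulo the next one and are independent on the completed stalk.
-/

set_option autoImplicit false
set_option linter.style.haveILetI false
set_option linter.unusedSectionVars false

universe u

open CategoryTheory Limits AlgebraicGeometry Opposite TopologicalSpace

namespace Groth.Agent.H2.CanExt.Stalk

open Groth.Agent.Lib Groth.Agent.H78.Formal Groth.Agent.H78.Formal.Sections Groth.Agent.H2.CanExt.Mult
open Groth.Agent.Lib.Modules.StalkModule

variable {A : Type u} [CommRing A] {X : Scheme.{u}} [X.Over (Spec (CommRingCat.of A))]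
variable {I : Ideal A} {G : ℕᵒᵖ ⥤ X.Modules}

theorem germ_sMap {U : X.Opens} {y : X} (hy : y ∈ U) (a : A) :
    X.presheaf.germ U y hy (sMap A U a) = Algz.toStalk A X y a :=
  TopCat.Presheaf.germ_res_apply X.presheaf _ y hy _

theorem stalkMap_smulMod (M : X.Modules) (a : A) (y : X) (v : M.presheaf.stalk y) :
    stalkMapₗ (_root_.Formal.smulMod A M a) y v = Algz.toStalk A X y a • v := by
  obtain ⟨U, hy, t, rfl⟩ := TopCat.Presheaf.exists_germ_eq M.presheaf v
  rw [stalkMapₗ_germ, smulMod_app, germ_smul, germ_sMap]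

/-- Away from `V(I)` the stalk ideal is the whole ring. -/
theorem stalkIdeal_eq_top (y : X)
    (hy : (X ↘ Spec (CommRingCat.of A)).base y ∉ PrimeSpectrum.zeroLocus (R := A) I) :
    Algz.stalkIdeal I y = ⊤ := by
  obtain ⟨a, ha, hap⟩ := Set.not_subset.1 (fun h => hy h)
  refine Ideal.eq_top_of_isUnit_mem _ (Ideal.mem_map_of_mem _ ha) ?_
  let f := X ↘ Spec (CommRingCat.of A)
  have h1 : f.base y ∈ (Spec (CommRingCat.of A)).basicOpen
      ((Scheme.ΓSpecIso (CommRingCat.of A)).inv a) := by
    rw [basicOpen_eq_of_affine]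
    exact hap
  have h2 : y ∈ X.basicOpen (f.appTop ((Scheme.ΓSpecIso (CommRingCat.of A)).inv a)) := by
    rw [← Scheme.preimage_basicOpen_top]
    exact h1
  exact (X.mem_basicOpen (U := ⊤) _ y trivial).1 h2

/-- The transition on stalks. -/
noncomputable abbrev fs (G : ℕᵒᵖ ⥤ X.Modules) (y : X) {n m : ℕ} (h : n ≤ m) :
    (G.obj (op m)).presheaf.stalk y →ₗ[X.presheaf.stalk y] (G.obj (op n)).presheaf.stalk y :=
  stalkMapₗ (T G h) y

variable (hG : _root_.Formal.IsCohFormal I G)
include hG

theorem fs_surjective (y : X) {n m : ℕ} (h : n ≤ m) : Function.Surjective (fs G y h) :=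
  haveI := Sys.epi_map hG h
  (epi_iff_stalkMapₗ_surjective (T G h)).1 inferInstance y

theorem killed_stalk (y : X) (n : ℕ) :
    Algz.stalkIdeal I y ^ (n + 1) • (⊤ : Submodule (X.presheaf.stalk y) ((G.obj (op n)).presheaf.stalk y)) = ⊥ := by
  rw [eq_bot_iff, Submodule.smul_le]
  intro r hr v _
  rw [Algz.stalkIdeal, ← Ideal.map_pow] at hr
  have hle : (I ^ (n + 1)).map (Algz.toStalk A X y) ≤
      LinearMap.ker (LinearMap.toSpanSingleton (X.presheaf.stalk y) _ v) :=
    Ideal.map_le_iff_le_comap.2 fun a ha => by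
      show Algz.toStalk A X y a • v = 0
      rw [← stalkMap_smulMod, hG.2.1 n a ha, stalkMapₗ_zero]
      rfl
  exact (Submodule.mem_bot _).2 (hle hr)

theorem ker_fs (y : X) (n : ℕ) : LinearMap.ker (fs G y (Nat.le_succ n)) =
    Algz.stalkIdeal I y ^ (n + 1) • (⊤ : Submodule (X.presheaf.stalk y) ((G.obj (op (n + 1))).presheaf.stalk y)) := by
  haveI := Sys.qcoh hG (n + 1)
  haveI := Sys.qcoh hG n
  refine le_antisymm (fun v hv => ?_) ?_
  · obtain ⟨U, hU, hyU⟩ := exists_affine y
    obtain ⟨f, t, hf, e⟩ := StalkLoc.Basic.exists_smul_eq_germ hU hyU v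
    have e2 : (G.obj (op n)).presheaf.germ U y hyU ((T G (Nat.le_succ n)).app U t) = 0 := by
      rw [← stalkMapₗ_germ, ← e, map_smul, show fs G y (Nat.le_succ n) v = 0 from hv, smul_zero]
    obtain ⟨q, hq, hqt⟩ := (StalkLoc.Basic.germ_eq_zero_iff hU hyU _).1 e2
    have h3 := ((Sys.succ_spec hG n hU).2 (q • t)).1 (((T G (Nat.le_succ n)).app_smul q t).trans hqt)
    have h4 : ∀ w ∈ sIdeal I U ^ (n + 1) • (⊤ : Submodule Γ(X, U) Γ(G.obj (op (n + 1)), U)),
        (G.obj (op (n + 1))).presheaf.germ U y hyU w ∈ Algz.stalkIdeal I y ^ (n + 1) •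
          (⊤ : Submodule (X.presheaf.stalk y) ((G.obj (op (n + 1))).presheaf.stalk y)) := by
      intro w hw
      refine Submodule.smul_induction_on hw (fun r hr m _ => ?_) fun a b ha hb => ?_
      · rw [germ_smul]
        refine Submodule.smul_mem_smul ?_ trivial
        have hmap : (sIdeal I U).map (X.presheaf.germ U y hyU).hom = Algz.stalkIdeal I y := by
          rw [sIdeal, Ideal.map_map, Algz.stalkIdeal]
          exact congrArg (fun φ => I.map φ) (RingHom.ext fun a => germ_sMap hyU a)
        rw [← hmap, ← Ideal.map_pow]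
        exact Ideal.mem_map_of_mem _ hr
      · rw [map_add]; exact add_mem ha hb
    have h5 := h4 _ h3
    rw [germ_smul, ← e] at h5
    have hu : IsUnit (X.presheaf.germ U y hyU q * X.presheaf.germ U y hyU f) :=
      ((X.mem_basicOpen q y hyU).1 hq).mul ((X.mem_basicOpen f y hyU).1 hf)
    rw [smul_smul] at h5
    exact (Submodule.smul_mem_iff_of_isUnit _ hu).1 h5
  · rw [Submodule.smul_le]
    intro r hr v _
    rw [LinearMap.mem_ker, map_smul, ← Submodule.mem_bot (X.presheaf.stalk y), ← killed_stalk hG y n]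
    exact Submodule.smul_mem_smul hr trivial

/-- The stalk of the kernel of a step. -/
theorem exact_stalk (y : X) (n : ℕ) :
    Function.Injective (stalkMapₗ (kernel.ι (T G (Nat.le_succ n))) y) ∧
    ∀ v, fs G y (Nat.le_succ n) v = 0 → ∃ w, stalkMapₗ (kernel.ι (T G (Nat.le_succ n))) y w = v := by
  refine ⟨(mono_iff_stalkMapₗ_injective _).1 inferInstance y, fun v hv => ?_⟩
  exact (ShortComplex.ab_exact_iff _).1
    (((step_shortExact hG n).map_of_exact (Modules.Stalk.stalkFunctor X y)).exact) v hv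

theorem toK_stalk (y : X) {n : ℕ} {g : A} (hg : g ∈ I ^ (n + 1)) (x : (G.obj (op (n + 1))).presheaf.stalk y) :
    stalkMapₗ (kernel.ι (T G (Nat.le_succ n))) y (stalkMapₗ (toK hG hg) y (fs G y (Nat.zero_le (n + 1)) x)) =
      Algz.toStalk A X y g • x := by
  rw [← stalkMap_smulMod, ← T_mulTo hG (Nat.zero_le (n + 1)) (Nat.zero_add _).ge hg, ← toK_ι hG hg]
  simp only [stalkMapₗ_comp, LinearMap.comp_apply]

omit hG in
theorem biproduct_stalk {N : ℕ} {M L : X.Modules} (φ : Fin N → (M ⟶ L)) (y : X)
    (v : (⨁ fun _ : Fin N => M).presheaf.stalk y) :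
    stalkMapₗ (biproduct.desc φ) y v =
      ∑ i, stalkMapₗ (φ i) y (stalkMapₗ (biproduct.π (fun _ : Fin N => M) i) y v) := by
  rw [biproduct.desc_eq]
  classical
  induction (Finset.univ : Finset (Fin N)) using Finset.induction_on with
  | empty => rw [Finset.sum_empty, Finset.sum_empty, stalkMapₗ_zero]; rfl
  | insert i t hi ih =>
    rw [Finset.sum_insert hi, Finset.sum_insert hi, stalkMapₗ_add, LinearMap.add_apply, ih, stalkMapₗ_comp,
      LinearMap.comp_apply]

/-- The isomorphism criterion on the stalks of the levels. -/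
theorem isIso_desc_of_stalk {n N : ℕ} (b : Fin N → A) (hb : ∀ i, b i ∈ I ^ (n + 1))
    (hsurj : ∀ y : X, ∀ v : (G.obj (op (n + 1))).presheaf.stalk y, fs G y (Nat.le_succ n) v = 0 →
      ∃ x : Fin N → (G.obj (op (n + 1))).presheaf.stalk y, ∑ i, Algz.toStalk A X y (b i) • x i = v)
    (hinj : ∀ y : X, ∀ x : Fin N → (G.obj (op (n + 1))).presheaf.stalk y,
      ∑ i, Algz.toStalk A X y (b i) • x i = 0 → ∀ i, fs G y (Nat.zero_le (n + 1)) (x i) = 0) :
    IsIso (biproduct.desc fun i => toK hG (hb i)) := by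
  rw [isIso_iff_stalkMapₗ_bijective]
  intro y
  let κ := stalkMapₗ (kernel.ι (T G (Nat.le_succ n))) y
  have hκ := exact_stalk hG y n
  have hsum : ∀ (x : Fin N → (G.obj (op (n + 1))).presheaf.stalk y),
      κ (∑ i, stalkMapₗ (toK hG (hb i)) y (fs G y (Nat.zero_le (n + 1)) (x i))) =
        ∑ i, Algz.toStalk A X y (b i) • x i := fun x => by
    rw [map_sum]
    exact Finset.sum_congr rfl fun i _ => toK_stalk hG y (hb i) (x i)
  refine ⟨(injective_iff_map_eq_zero _).2 fun v hv => ?_, fun w => ?_⟩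
  · rw [biproduct_stalk] at hv
    choose x hx using fun i =>
      fs_surjective hG y (Nat.zero_le (n + 1)) (stalkMapₗ (biproduct.π (fun _ : Fin N => G.obj (op 0)) i) y v)
    have h0 := hinj y x (by
      rw [← hsum]
      simp only [hx]
      exact (congrArg κ hv).trans (map_zero _))
    have hz : ∀ i, stalkMapₗ (biproduct.π (fun _ : Fin N => G.obj (op 0)) i) y v = 0 := fun i => by
      rw [← hx i, h0 i]
    have e : v = stalkMapₗ (biproduct.desc fun i => biproduct.ι (fun _ : Fin N => G.obj (op 0)) i) y v := by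
      rw [show (biproduct.desc fun i => biproduct.ι (fun _ : Fin N => G.obj (op 0)) i) = 𝟙 _ from by
        apply biproduct.hom_ext'; intro i; simp, stalkMapₗ_id]
      rfl
    rw [e, biproduct_stalk]
    exact Finset.sum_eq_zero fun i _ => by rw [hz, map_zero]
  · obtain ⟨x, hx⟩ := hsurj y (κ w) (by
      show fs G y (Nat.le_succ n) (κ w) = 0
      rw [← LinearMap.comp_apply, ← stalkMapₗ_comp, kernel.condition, stalkMapₗ_zero, LinearMap.zero_apply])
    refine ⟨∑ i, stalkMapₗ (biproduct.ι (fun _ : Fin N => G.obj (op 0)) i) y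
      (fs G y (Nat.zero_le (n + 1)) (x i)), hκ.1 ?_⟩
    rw [← hx, ← hsum, map_sum]
    refine congrArg κ (Finset.sum_congr rfl fun i _ => ?_)
    rw [← LinearMap.comp_apply, ← stalkMapₗ_comp, biproduct.ι_desc]

omit hG

/-! ### Completed stalks -/

theorem hatStalk_smul_apply (y : X) (r : X.presheaf.stalk y) (x : ↥(Algz.hatStalk I G y)) (n : ℕ) :
    (r • x).1 n = r • x.1 n := rfl

include hG

theorem bijective_of (y : X) (n : ℕ) :
    Function.Bijective (AdicCompletion.of (Algz.stalkIdeal I y) ((G.obj (op n)).presheaf.stalk y)) := by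
  haveI : IsAdicComplete (Algz.stalkIdeal I y) ((G.obj (op n)).presheaf.stalk y) :=
    { haus' := fun x hx => by
        have h := SModEq.zero.1 (hx (n + 1))
        rwa [killed_stalk hG, Submodule.mem_bot] at h
      prec' := fun f hf => ⟨f (n + 1), fun m => by
        rcases le_total m (n + 1) with h | h
        · exact hf h
        · have h' := hf h
          rw [killed_stalk hG, SModEq.bot] at h'
          rw [h']⟩ }
  exact AdicCompletion.of_bijective _ _

/-- The projection of the completed stalk to the stalk of a level. -/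
noncomputable def π (y : X) (n : ℕ) :
    ↥(Algz.hatStalk I G y) →ₗ[X.presheaf.stalk y] (G.obj (op n)).presheaf.stalk y where
  toFun x := (LinearEquiv.ofBijective _ (bijective_of hG y n)).symm (x.1 n)
  map_add' x x' := map_add _ (x.1 n) (x'.1 n)
  map_smul' r x := (congrArg _ (hatStalk_smul_apply y r x n)).trans (map_smul _ r (x.1 n))

theorem of_π (y : X) (n : ℕ) (x : ↥(Algz.hatStalk I G y)) :
    AdicCompletion.of (Algz.stalkIdeal I y) ((G.obj (op n)).presheaf.stalk y) (π hG y n x) = x.1 n :=
  (LinearEquiv.ofBijective _ (bijective_of hG y n)).apply_symm_apply (x.1 n)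

theorem fs_π (y : X) (n : ℕ) (x : ↥(Algz.hatStalk I G y)) :
    fs G y (Nat.le_succ n) (π hG y (n + 1) x) = π hG y n x := by
  apply (bijective_of hG y n).1
  rw [of_π]
  refine Eq.trans ?_ (x.2 n)
  rw [← of_π hG y (n + 1) x]
  exact (AdicCompletion.map_of _ _ _).symm

theorem fs_π_le (y : X) {m n : ℕ} (h : m ≤ n) (x : ↥(Algz.hatStalk I G y)) :
    fs G y h (π hG y n x) = π hG y m x := by
  induction h with
  | refl =>
    rw [fs, show T G (le_refl m) = 𝟙 _ from G.map_id _, stalkMapₗ_id]
    rfl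
  | @step n h ih =>
    rw [fs, ← T_comp h (Nat.le_succ n), stalkMapₗ_comp, LinearMap.comp_apply]
    show fs G y h (fs G y (Nat.le_succ n) (π hG y (n + 1) x)) = _
    rw [fs_π, ih]

theorem isSys (y : X) :
    Adic.Limit.IsSys (Algz.stalkIdeal I y) (fun n => fs G y (Nat.le_succ n)) (π hG y) where
  hf n := fs_surjective hG y _
  hker := ker_fs hG y
  hπ n := LinearMap.ext fun x => fs_π hG y n x
  hinj x hx := Subtype.ext (funext fun n => by rw [← of_π hG y n x, hx, map_zero]; rfl)
  hlift z hz := ⟨⟨fun n => AdicCompletion.of _ _ (z n), fun n =>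
      (AdicCompletion.map_of _ _ _).trans (congrArg _ (hz n))⟩, fun n => by
    apply (bijective_of hG y n).1
    rw [of_π]⟩

/-- The isomorphism criterion on completed stalks. -/
theorem isIso_desc [IsNoetherianRing A] {n N : ℕ} (b : Fin N → A) (hb : ∀ i, b i ∈ I ^ (n + 1))
    (hgen : ∀ y : X, Algz.stalkIdeal I y ^ (n + 1) ≤
      Ideal.span (Set.range fun i => Algz.toStalk A X y (b i)) ⊔ Algz.stalkIdeal I y ^ (n + 2))
    (hind : ∀ y : X, ∀ x : Fin N → ↥(Algz.hatStalk I G y),
      ∑ i, Algz.toStalk A X y (b i) • x i ∈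
        Algz.stalkIdeal I y ^ (n + 2) • (⊤ : Submodule (X.presheaf.stalk y) ↥(Algz.hatStalk I G y)) →
      ∀ i, x i ∈ Algz.stalkIdeal I y • (⊤ : Submodule (X.presheaf.stalk y) ↥(Algz.hatStalk I G y))) :
    IsIso (biproduct.desc fun i => toK hG (hb i)) := by
  have hfg : ∀ y : X, (Algz.stalkIdeal I y).FG := fun y => Ideal.FG.map (IsNoetherian.noetherian I) _
  refine isIso_desc_of_stalk hG b hb (fun y v hv => ?_) fun y x hx i => ?_
  · have hv' : v ∈ Algz.stalkIdeal I y ^ (n + 1) • (⊤ : Submodule (X.presheaf.stalk y) _) :=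
      (ker_fs hG y n).le hv
    have h := Submodule.smul_mono_left (hgen y) hv'
    rw [Submodule.sup_smul, killed_stalk hG y (n + 1), sup_bot_eq] at h
    refine Submodule.smul_induction_on h (fun r hr m _ => ?_) fun v w hv hw => ?_
    · obtain ⟨c, rfl⟩ := (Submodule.mem_span_range_iff_exists_fun _).1 hr
      refine ⟨fun i => c i • m, ?_⟩
      rw [Finset.sum_smul]
      exact Finset.sum_congr rfl fun i _ => by rw [smul_smul, smul_eq_mul, mul_comm]
    · obtain ⟨x, hx⟩ := hv
      obtain ⟨x', hx'⟩ := hw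
      exact ⟨x + x', by simp only [Pi.add_apply, smul_add, Finset.sum_add_distrib, hx, hx']⟩
  · choose z hz using fun i => Adic.Limit.surjective (isSys hG y) (n + 1) (x i)
    have h : ∑ i, Algz.toStalk A X y (b i) • z i ∈ LinearMap.ker (π hG y (n + 1)) := by
      rw [LinearMap.mem_ker, map_sum]
      simp only [map_smul, hz]
      exact hx
    rw [Adic.Limit.ker_eq (isSys hG y) (hfg y)] at h
    have h1 := hind y z h i
    have hk := Adic.Limit.ker_eq (isSys hG y) (hfg y) 0
    rw [zero_add, pow_one] at hk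
    rw [← hz, fs_π_le]
    exact hk.ge h1

end Groth.Agent.H2.CanExt.Stalk
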